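import Cfsg.Agent.Lib.H8SqClass
import Cfsg.Agent.Lib.H8FT
import Cfsg.Agent.Lib.CoreElements

/-! Reduction of the `p²`-free class size criterion (elements of prime power order) to
nonabelian simple groups. -/

set_option autoImplicit false

namespace CfsgLib.PP131

open Subgroup Cfsg CfsgLib CfsgLib.PCompl CfsgLib.PRes CfsgLib.FrobNPC CfsgLib.SqClass

universe u

/-- `p²` divides no class size of an element of `r`-power order, `r ≠ p` prime. -/
def SQ (p : ℕ) (G : Type*) [Group G] : Prop :=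
  ∀ x : G, (∃ r k : ℕ, r.Prime ∧ r ≠ p ∧ orderOf x = r ^ k) →
    ¬ p ^ 2 ∣ (centralizer ({x} : Set G)).index

variable {G : Type*} [Group G] [Finite G] {p : ℕ}

theorem exists_lift_pow {G' : Type*} [Group G'] (f : G →* G') {r k : ℕ} (hr : r.Prime) (x : G)
    (h : orderOf (f x) = r ^ k) : ∃ u, f u = f x ∧ ∃ j, orderOf u = r ^ j := by
  obtain ⟨u, -, h1, h2⟩ := exists_lift_isPiNum f (π := {r}) x fun q hq hd =>
    (Nat.prime_dvd_prime_iff_eq hq hr).1 (hq.dvd_of_dvd_pow (h ▸ hd))
  exact ⟨u, h1, _, Nat.eq_prime_pow_of_unique_prime_dvd (orderOf_pos u).ne' fun hq hd =>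
    h2 _ hq hd⟩

theorem SQ.quot (h : SQ p G) (N : Subgroup G) [N.Normal] : SQ p (G ⧸ N) := by
  rintro x ⟨r, k, hr, hrp, hx⟩ hd
  obtain ⟨x, rfl⟩ := QuotientGroup.mk_surjective x
  obtain ⟨u, h1, j, h2⟩ := exists_lift_pow (QuotientGroup.mk' N) hr x hx
  have h3 : (u : G ⧸ N) = x := h1
  exact h u ⟨r, j, hr, hrp, h2⟩ ((h3 ▸ hd).trans (Frob.index_centralizer_mk_dvd N u))

theorem SQ.normal (h : SQ p G) (N : Subgroup G) [N.Normal] : SQ p N := by
  rintro x ⟨r, k, hr, hrp, hx⟩ hd
  exact h x ⟨r, k, hr, hrp, by rwa [orderOf_coe]⟩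
    (hd.trans (Frob.index_centralizer_normal_dvd N x))

theorem hnpc_of_simple [hp : Fact p.Prime]
    (hs : ∀ (X : Type u) [Group X] [Finite X] [IsSimpleGroup X], ¬ IsMulCommutative X →
      (∀ r : ℕ, r.Prime → r ∣ Nat.card X → p ≤ r) → ¬ SQ p X)
    (G : Type u) [Group G] [Finite G] :
    (∀ r : ℕ, r.Prime → r ∣ Nat.card G → p ≤ r) → SQ p G → HasNormalPComplement p G := by
  revert G
  refine card_induction fun G _ _ IH hmin hcl => ?_
  by_contra hG
  have hquot : ∀ (N : Subgroup G) [N.Normal], N ≠ ⊥ → HasNormalPComplement p (G ⧸ N) :=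
    fun N _ hN => IH _ (card_quotient_lt hN)
      (fun r hr hd => hmin r hr (hd.trans (card_quotient_dvd_card N))) (hcl.quot N)
  have hnorm : ∀ (N : Subgroup G) [N.Normal], N ≠ ⊤ → IsPGroup p N := by
    intro N _ hN
    have h1 : HasNormalPComplement p N := IH _ (card_lt_of_ne_top hN)
      (fun r hr hd => hmin r hr (hd.trans (card_subgroup_dvd_card N))) (hcl.normal N)
    have := pResidual_characteristic (G := N) (p := p)
    rw [← pResidual_eq_bot_iff]
    by_contra h2
    refine hG (hnpc_of_quotient_coprime ((pResidual p N).map N.subtype) ?_ (hquot _ ?_))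
    · rw [card_map_subtype]
      exact hnpc_iff_coprime_pResidual.mp h1
    · rwa [Ne, map_eq_bot_iff_of_injective _ N.subtype_injective]
  have hlt : ∀ (x : G) (r k : ℕ), r.Prime → r ≠ p → orderOf x = r ^ k → x ≠ 1 → p < r := by
    intro x r k hr hrp hx hx1
    refine lt_of_le_of_ne (hmin r hr ((dvd_trans ?_ (orderOf_dvd_natCard x)))) hrp.symm
    rw [hx]
    refine dvd_pow_self r fun h => hx1 ?_
    rwa [h, pow_zero, orderOf_eq_one_iff] at hx
  have hsimple : ∀ (N : Subgroup G) [N.Normal], N ≠ ⊥ → N = ⊤ := by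
    intro N _ hN
    by_contra hN'
    have h1 := hquot N hN
    have := pResidual_normal (G := G ⧸ N) (p := p)
    by_cases h2 : (pResidual p (G ⧸ N)).comap (QuotientGroup.mk' N) = ⊤
    · have h3 : pResidual p (G ⧸ N) = ⊤ := by
        rw [← map_comap_eq_self_of_surjective (QuotientGroup.mk'_surjective N)
          (pResidual p (G ⧸ N)), h2, map_top_of_surjective _ (QuotientGroup.mk'_surjective N)]
      have h4 := hnpc_iff_not_dvd_pResidual.mp h1
      rw [h3, card_top] at h4
      let P := (hnorm N hN').toSylow h4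
      apply hG
      apply hnpc_of_pAutomizer_le P
      intro H hH _
      apply pAutomizer_of_primePow
      intro x _ r k hr hrp hx
      by_cases hx1 : x = 1
      · exact hx1 ▸ one_mem _
      refine centralizer_le hH (mem_centralizer_of_relIndex_dvd hr (hlt x r k hr hrp hx hx1)
        (hnorm N hN') hx (le_normalizer_of_normal (mem_top x)) ?_)
      exact relIndex_dvd_of_not_sq_dvd (hnorm N hN') fun hd =>
        hcl x ⟨r, k, hr, hrp, hx⟩ (hd.trans (Frob.relIndex_normal_dvd_index _ N))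
    · obtain ⟨k, hk⟩ := exists_index_pResidual_eq_pow (G := G ⧸ N) (p := p)
      exact hG (hnpc_of_index_eq_pow _
        ((index_comap_of_surjective _ (QuotientGroup.mk'_surjective N)).trans hk)
        (hnpc_of_isPGroup (hnorm _ h2)))
  have hna : ¬ IsMulCommutative G := fun _ => hG hnpc_of_isMulCommutative
  have : Nontrivial G := by
    by_contra h
    rw [not_nontrivial_iff_subsingleton] at h
    exact hna ⟨⟨fun a b => Subsingleton.elim _ _⟩⟩
  have : IsSimpleGroup G := ⟨fun N hN => by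
    by_cases h : N = ⊥
    exacts [Or.inl h, Or.inr (hsimple N h)]⟩
  exact hs G hna hmin hcl

/-- The statement S4131, given that no nonabelian simple group satisfies `SQ 2`. -/
theorem main131 [hp : Fact p.Prime]
    (hs : ∀ (X : Type u) [Group X] [Finite X] [IsSimpleGroup X], ¬ IsMulCommutative X → ¬ SQ 2 X)
    (G : Type u) [Group G] [Finite G] (hmin : ∀ r : ℕ, r.Prime → r ∣ Nat.card G → p ≤ r)
    (h : SQ p G) : HasNormalPComplement p G ∧ Group.IsSolvable G := by
  have h1 : ∀ (X : Type u) [Group X] [Finite X], (∀ r : ℕ, r.Prime → r ∣ Nat.card X → p ≤ r) →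
      p ≠ 2 → Group.IsSolvable X := fun X _ _ h1 h2 => H8FT.solvable_of_not_two_dvd fun h3 =>
    h2 (le_antisymm (h1 2 Nat.prime_two h3) hp.out.two_le)
  have h2 := hnpc_of_simple (p := p) (fun X _ _ _ hna hm hq => by
    by_cases e : p = 2
    · exact hs X hna (e ▸ hq)
    · have := h1 X hm e
      exact hna ⟨⟨IsSimpleGroup.comm_iff_isSolvable.2 this⟩⟩) G hmin h
  refine ⟨h2, ?_⟩
  by_cases e : p = 2
  · subst e
    exact H8FT.solvable_of_hnpc_two h2
  · exact h1 G hmin e

end CfsgLib.PP131
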